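import Cfsg.Agent.H674.BR.Model
import Cfsg.Agent.H623.BR.Polar

/-!
# S4829: the action of `MulAut S` on a homogeneous space with different point stabilizers (helper999)

* `AutData S Ω` : the point stabilizers of `S` in `Ω` are pairwise not contained in each other, every automorphism of `S`
  permutes them; `AutData.act : MulAction (MulAut S) Ω`, `AutData.act_conj`, `AutData.act_equiv`, `AutData.eq_of`;
* `PolAut Φ S k` : the polar space version, `PolAut.orb` : `MulAut S` preserves every `S`-orbital of `Φ.X k`.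
-/

set_option autoImplicit false

set_option linter.unusedSectionVars false
set_option linter.unusedVariables false

open Module

namespace Cfsg.Agent.H999.CY

universe u v

/-- the point stabilizers are different, and permuted by the automorphisms -/
structure AutData (S : Type u) [Group S] (Ω : Type v) [MulAction S Ω] : Prop where
  inj : ∀ x y : Ω, (∀ g : S, g • x = x → g • y = y) → x = y
  aut : ∀ a : MulAut S, ∃ φ : Ω → Ω, ∀ (g : S) (x : Ω), g • x = x → a g • φ x = φ x

section

variable {S : Type u} [Group S] {Ω : Type v} [MulAction S Ω]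

/-- the image of a point -/
noncomputable def AutData.f (h : AutData S Ω) (a : MulAut S) : Ω → Ω := Classical.choose (h.aut a)

theorem AutData.f_spec (h : AutData S Ω) (a : MulAut S) {g : S} {x : Ω} (hg : g • x = x) : a g • h.f a x = h.f a x :=
  Classical.choose_spec (h.aut a) g x hg

/-- uniqueness -/
theorem AutData.eq_of (h : AutData S Ω) (a : MulAut S) {x y : Ω} (hy : ∀ g : S, g • x = x → a g • y = y) :
    h.f a x = y := by
  symm
  apply h.inj
  -- stabilizers: Stab y ≥ a (Stab x) ; show Stab y ≤ Stab (f a x)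
  intro g hg
  -- use a⁻¹
  have h1 : h.f a⁻¹ y = x := by
    symm
    apply h.inj
    intro g' hg'
    have h2 := hy g' hg'
    have h3 := h.f_spec a⁻¹ h2
    rwa [MulAut.inv_apply_self] at h3
  have h2 := h.f_spec a⁻¹ hg
  rw [h1] at h2
  have h3 := h.f_spec a h2
  rwa [MulAut.apply_inv_self] at h3

/-- **the action of the automorphism group** -/
@[reducible] noncomputable def AutData.act (h : AutData S Ω) : MulAction (MulAut S) Ω where
  smul a x := h.f a x
  one_smul x := h.eq_of 1 fun g hg => hg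
  mul_smul a b x := h.eq_of (a * b) fun _ hg => h.f_spec a (h.f_spec b hg)

theorem AutData.act_conj (h : AutData S Ω) (s : S) (x : Ω) : h.f (MulAut.conj s) x = s • x := by
  apply h.eq_of
  intro g hg
  rw [MulAut.conj_apply, mul_smul, mul_smul, inv_smul_smul, hg]

theorem AutData.act_equiv (h : AutData S Ω) (a : MulAut S) (s : S) (x : Ω) : h.f a (s • x) = a s • h.f a x := by
  apply h.eq_of
  intro g hg
  have h1 : (s⁻¹ * g * s) • x = x := by rw [mul_smul, mul_smul, hg, inv_smul_smul]
  have h2 := h.f_spec a h1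
  rw [map_mul, map_mul, map_inv, mul_smul, mul_smul, inv_smul_eq_iff] at h2
  exact h2

end

section Pol

open Cfsg.Agent.H2.Pol Cfsg.Agent.H674.BR
open Cfsg.Agent.H623.BR (typ)

variable {F : Type*} {V : Type*} [Field F] [AddCommGroup V] [Module F V] [FiniteDimensional F V] {Φ : Pol F V}

theorem sub_inf {M : V ≃+ V} (hM : SemiAct Φ M) (U W : Submodule F V) : hM.sub (U ⊓ W) = hM.sub U ⊓ hM.sub W := by
  ext v
  obtain ⟨v, rfl⟩ := M.surjective v
  rw [hM.mem_sub, Submodule.mem_inf, Submodule.mem_inf, hM.mem_sub, hM.mem_sub]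

theorem sub_perp {M : V ≃+ V} (hM : SemiAct Φ M) (U : Submodule F V) : hM.sub (Φ.perp U) = Φ.perp (hM.sub U) := by
  ext v
  obtain ⟨v, rfl⟩ := M.surjective v
  rw [hM.mem_sub, Φ.mem_perp, Φ.mem_perp]
  constructor
  · rintro h _ ⟨x, hx, rfl⟩
    exact (hM.orth v x).2 (h x hx)
  · intro h x hx
    exact (hM.orth v x).1 (h (M x) (hM.mem_sub.2 hx))

theorem typ_perm {M : V ≃+ V} (hM : SemiAct Φ M) {k : ℕ} (U W : Φ.X k) :
    typ Φ (hM.perm k U).1 (hM.perm k W).1 = typ Φ U.1 W.1 := by
  have h1 : (hM.perm k U).1 = hM.sub U.1 := rfl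
  have h2 : (hM.perm k W).1 = hM.sub W.1 := rfl
  rw [h1, h2]
  unfold typ
  rw [← sub_perp hM, ← sub_inf hM, ← sub_inf hM, hM.finrank, hM.finrank]

/-- the polar space version -/
structure PolAut (Φ : Pol F V) (S : Type u) [Group S] (k : ℕ) [MulAction S (Φ.X k)] : Prop where
  inj : ∀ x y : Φ.X k, (∀ g : S, g • x = x → g • y = y) → x = y
  aut : ∀ a : MulAut S, ∃ (M : V ≃+ V) (hM : SemiAct Φ M), ∀ (g : S) (x : Φ.X k), g • x = x →
    a g • hM.perm k x = hM.perm k x
  pairs : ∀ U U2 W W2 : Φ.X k, typ Φ U.1 U2.1 = typ Φ W.1 W2.1 → ∃ g : S, g • U = W ∧ g • U2 = W2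

variable {S : Type u} [Group S] {k : ℕ} [MulAction S (Φ.X k)]

theorem PolAut.data (h : PolAut Φ S k) : AutData S (Φ.X k) where
  inj := h.inj
  aut := fun a => by
    obtain ⟨M, hM, h1⟩ := h.aut a
    exact ⟨hM.perm k, h1⟩

/-- **`MulAut S` preserves every `S`-orbital.** -/
theorem PolAut.orb (h : PolAut Φ S k) (a : MulAut S) (U W : Φ.X k) :
    ∃ g : S, g • U = h.data.f a U ∧ g • W = h.data.f a W := by
  obtain ⟨M, hM, h1⟩ := h.aut a
  have h2 : ∀ X : Φ.X k, h.data.f a X = hM.perm k X := fun X => h.data.eq_of a fun g hg => h1 g X hg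
  rw [h2, h2]
  exact h.pairs _ _ _ _ (typ_perm hM U W).symm

end Pol

end Cfsg.Agent.H999.CY
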